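/-
Disconnected classes of 3-transpositions: the facts needed about one component.
-/
import Cfsg.Agent.H71.Fischer.Defs

set_option autoImplicit false

namespace H88.Disc

open Cfsg H71.Fischer

universe u

section defs

variable {X : Type u} [Group X] (E : Set X)

/-- An involutory element pairing every member of `E` with a different member commuting with it. -/
def IsShift (g : X) : Prop := g * g = 1 ∧ ∀ a ∈ E, g * a * g⁻¹ ≠ a ∧ Commute a (g * a * g⁻¹)

/-- The products of two distinct commuting members. -/
def pairProd : Set X := {z | ∃ a ∈ E, ∃ b ∈ E, a ≠ b ∧ Commute a b ∧ a * b = z}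

/-- What a second component leaves in a component: the products of its commuting pairs. -/
structure Twist (T : Set X) : Prop where
  shift : ∀ g ∈ T, IsShift E g
  mem : ∀ g ∈ T, g ∈ commutator X
  inv : ∀ h ∈ commutator X, ∀ g ∈ T, h * g * h⁻¹ ∈ T
  nonempty : T.Nonempty
  card : T.ncard = (pairProd E).ncard
  dvd : ∀ a ∈ E, E.ncard ∣ Nat.card (Subgroup.centralizer ({a} : Set X))

/-- Fewer than eight twists fit into the group. -/
def FewShifts : Prop :=
  {g : X | g ∈ commutator X ∧ IsShift E g}.ncard < 8 * (pairProd E).ncard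

end defs

/-! ### The statements for the single families -/

/-- Symmetric, symplectic, unitary groups and the types M(22), M(23), M(24). -/
def PlainStmt : Prop :=
  ∀ {X : Type u} [Group X] [Finite X] {E : Set X},
    (∃ n, 3 ≤ n ∧ SymCase X E n) ∨ (∃ m, 2 ≤ m ∧ SpCase X E m) ∨ (∃ n, 4 ≤ n ∧ PSUCase X E n) →
    ∀ g, ¬ IsShift E g

/-- Elliptic orthogonal groups over two elements. -/
def OMinusShiftStmt : Prop :=
  ∀ {X : Type u} [Group X] [Finite X] {E : Set X} {m : ℕ}, 2 ≤ m → OMinusCase X E m →
    ∀ g, ¬ IsShift E g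

/-- Hyperbolic orthogonal groups over two elements: only dimension eight is left. -/
def OPlusTwistStmt : Prop :=
  ∀ {X : Type u} [Group X] [Finite X] {E : Set X} {m : ℕ}, 3 ≤ m → OPlusCase X E m →
    ∀ T, Twist E T → m = 4 ∧ FewShifts E ∧
      Nonempty (↥(commutator X) ≃* ↥(Cfsg.Omega (ZMod 2) (Cfsg.quadFormPlus 4 (ZMod 2))))

/-- Reflection groups over three elements: only dimension eight of hyperbolic type is left. -/
def ReflTwistStmt : Prop :=
  ∀ {X : Type u} [Group X] [Finite X] {E : Set X} {n : ℕ}, 5 ≤ n → ReflCase X E n →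
    ∀ T, Twist E T → n = 8 ∧ FewShifts E ∧
      Nonempty (↥(commutator X) ≃* Cfsg.POmega (ZMod 3) (Cfsg.quadFormPlus 4 (ZMod 3)))

end H88.Disc
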