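/-
Two commuting transpositions and a third commuting with neither.
-/
import Cfsg.Agent.H99.TTBasic

set_option autoImplicit false

namespace H88.Disc

open Cfsg H99

variable {G : Type*} [Group G] {D : Set G}

/-- A commuting pair moves a third member to a different member commuting with it, and that member
moves the first of the pair to the second. -/
theorem pair_shift (hT : IsThreeTranspositionSet D) {a f f' : G} (ha : a ∈ D) (hf : f ∈ D)
    (hf' : f' ∈ D) (hne : f ≠ f') (hc : Commute f f') (h1 : ¬ Commute a f) (h2 : ¬ Commute a f') :
    (f * f') * a * (f * f')⁻¹ ≠ a ∧ Commute a ((f * f') * a * (f * f')⁻¹) ∧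
      (a * ((f * f') * a * (f * f')⁻¹)) * f * (a * ((f * f') * a * (f * f')⁻¹))⁻¹ = f' := by
  have haa := tt_mul_self hT ha
  have hff := tt_mul_self hT hf
  have hff' := tt_mul_self hT hf'
  have e1 : f * a * f = a * f * a := (tt_braid hT ha hf h1).symm
  have e2 : f' * a * f' = a * f' * a := (tt_braid hT ha hf' h2).symm
  have hb : (f * f') * a * (f * f')⁻¹ = f' * (f * a * f) * f' := by
    rw [mul_inv_rev, tt_inv hT hf, tt_inv hT hf', hc.eq]
    calc f' * f * a * (f' * f) = f' * f * a * (f * f') := by rw [hc.eq]
      _ = f' * (f * a * f) * f' := by simp only [mul_assoc]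
  rw [hb]
  have hfix : ∀ z : G, f * (f * z * f) * f = z := fun z => by
    calc f * (f * z * f) * f = f * f * z * (f * f) := by simp only [mul_assoc]
      _ = z := by rw [hff, one_mul, mul_one]
  have hfix' : ∀ z : G, f' * (f' * z * f') * f' = z := fun z => by
    calc f' * (f' * z * f') * f' = f' * f' * z * (f' * f') := by simp only [mul_assoc]
      _ = z := by rw [hff', one_mul, mul_one]
  have hfixa : ∀ z : G, a * (a * z * a) * a = z := fun z => by
    calc a * (a * z * a) * a = a * a * z * (a * a) := by simp only [mul_assoc]
      _ = z := by rw [haa, one_mul, mul_one]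
  set b := f' * (f * a * f) * f' with hbdef
  have hne' : b ≠ a := by
    intro h
    have h3 : f * a * f = f' * a * f' := by
      rw [← hfix' (f * a * f), ← hbdef, h]
    rw [e1, e2] at h3
    exact hne (mul_left_cancel (mul_right_cancel h3))
  have hconj : ∀ u v : G, a * (u * v * u) * a = (a * u * a) * (a * v * a) * (a * u * a) := by
    intro u v
    calc a * (u * v * u) * a = a * u * (1 : G) * v * (1 : G) * u * a := by simp only [mul_one, mul_assoc]
      _ = a * u * (a * a) * v * (a * a) * u * a := by rw [haa]
      _ = (a * u * a) * (a * v * a) * (a * u * a) := by simp only [mul_assoc]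
  have hcomm : a * b * a = b := by
    rw [hbdef, e1, hconj, ← e2, hfixa]
    calc f' * a * f' * f * (f' * a * f') = f' * a * (f' * f * f') * a * f' := by simp only [mul_assoc]
      _ = f' * a * f * a * f' := by rw [← hc.eq, mul_assoc f, hff', mul_one]
      _ = f' * (a * f * a) * f' := by simp only [mul_assoc]
  have hab : Commute a b := by
    show a * b = b * a
    calc a * b = a * b * a * a := by rw [mul_assoc _ a a, haa, mul_one]
      _ = b * a := by rw [hcomm]
  refine ⟨hne', hab, ?_⟩
  have hbb : b * b = 1 := by
    rw [hbdef]
    calc f' * (f * a * f) * f' * (f' * (f * a * f) * f')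
        = f' * (f * a * f) * (f' * f') * (f * a * f) * f' := by simp only [mul_assoc]
      _ = f' * (f * a * (f * f) * a * f) * f' := by rw [hff', mul_one]; simp only [mul_assoc]
      _ = 1 := by rw [hff, mul_one, mul_assoc f a a, haa, mul_one, hff, mul_one, hff']
  rw [mul_inv_rev, inv_eq_of_mul_eq_one_right hbb, tt_inv hT ha]
  have hbf : b * f * b = a * f' * a := by
    rw [hbdef]
    calc f' * (f * a * f) * f' * f * (f' * (f * a * f) * f')
        = f' * (f * a * f) * (f' * f * f') * (f * a * f) * f' := by simp only [mul_assoc]
      _ = f' * (f * a * f) * f * (f * a * f) * f' := by rw [show f' * f * f' = f by rw [← hc.eq, mul_assoc, hff', mul_one]]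
      _ = f' * (f * a * (f * f) * (f * a * f)) * f' := by simp only [mul_assoc]
      _ = f' * (f * (a * f * a) * f) * f' := by rw [hff, mul_one]; simp only [mul_assoc]
      _ = f' * a * f' := by rw [← e1, hfix]
      _ = a * f' * a := e2
  calc a * b * f * (b * a) = a * (b * f * b) * a := by simp only [mul_assoc]
    _ = f' := by rw [hbf, hfixa]

end H88.Disc
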