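/-
Disconnected classes of 3-transpositions: the simple normal subgroup, the cosets cutting the class
into pieces, and the group of one piece.
-/
import Cfsg.Agent.H88.Disc.Algebra
import Cfsg.Agent.H99.TTFischer

set_option autoImplicit false

namespace H88.Disc

open Cfsg H99

universe u

variable {G : Type u} [Group G] [Finite G] {D : Set G}

/-- The hypotheses, with the simple normal subgroup named. -/
structure Setup (D : Set G) (L : Subgroup G) : Prop where
  cls : IsThreeTranspositionClass D
  two : pCore 2 G = ⊥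
  three : pCore 3 G = ⊥
  triv : Subgroup.center G = ⊥
  disc : ¬ (commutingGraph D).Connected
  comp : IsComponent L
  fstar : generalizedFittingSubgroup G = L

theorem exists_setup (hD : IsThreeTranspositionClass D) (hZ : Subgroup.center G = ⊥)
    (h2 : pCore 2 G = ⊥) (h3 : pCore 3 G = ⊥) (hdisc : ¬ (commutingGraph D).Connected) :
    ∃ L : Subgroup G, Setup D L := by
  have hD2 : ∃ a ∈ D, ∃ b ∈ D, a ≠ b := by
    by_contra hno
    push Not at hno
    obtain ⟨d, hd, -⟩ := hD.2.1
    refine hdisc ?_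
    haveI : Nonempty ↥D := ⟨⟨d, hd⟩⟩
    refine ⟨fun x y => ?_⟩
    rw [show x = y from Subtype.ext (hno x x.2 y y.2)]
  obtain ⟨L, -, hL, -, hF⟩ := exists_quasisimple hD hD2 (by simp [h2]) (by simp [h3])
  exact ⟨L, hD, h2, h3, hZ, hdisc, hL, by rw [hF, hZ, sup_bot_eq]⟩

namespace Setup

variable {L : Subgroup G} (S : Setup D L)
include S

lemma tt : IsThreeTranspositionSet D := S.cls.1

lemma conj : ∀ g : G, ∀ d ∈ D, g * d * g⁻¹ ∈ D := fun g _ hd => class_conj_mem S.cls g hd

lemma normal : L.Normal := component_normal S.cls S.comp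

lemma core2 : pCore 2 G ≤ Subgroup.center G := by simp [S.two]

lemma core3 : pCore 3 G ≤ Subgroup.center G := by simp [S.three]

lemma ne_two : ∃ a ∈ D, ∃ b ∈ D, a ≠ b := by
  by_contra hno
  push Not at hno
  obtain ⟨d, hd, -⟩ := S.cls.2.1
  refine S.disc ?_
  haveI : Nonempty ↥D := ⟨⟨d, hd⟩⟩
  refine ⟨fun x y => ?_⟩
  rw [show x = y from Subtype.ext (hno x x.2 y y.2)]

lemma width : ∃ a ∈ D, ∃ b ∈ D, a ≠ b ∧ Commute a b := by
  by_contra h
  push Not at h
  obtain ⟨a, ha, b, hb, hab⟩ := S.ne_two
  have hm : a * b ∈ pCore 3 G := width_one_mem_pCore (fun e he => tt_mul_self S.tt he)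
    (fun g e he => S.conj g e he) (fun u hu v hv => by
      by_cases huv : u = v
      · rw [huv, tt_mul_self S.tt hv, one_pow]
      · exact tt_cube_of_not_commute S.tt hu hv (h u hu v hv huv)) ha hb
  rw [S.three, Subgroup.mem_bot] at hm
  exact hab (by rw [eq_inv_of_mul_eq_one_left hm, tt_inv S.tt hb])

lemma mem_of_commute {a b : G} (ha : a ∈ D) (hb : b ∈ D) (hc : Commute a b) : a * b ∈ L := by
  have := inv_mul_mem_of_commutator_mem S.cls S.comp ha hb (by
    rw [hc.eq, mul_inv_cancel_right, mul_inv_cancel]; exact one_mem L)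
  rwa [tt_inv S.tt ha] at this

lemma mem_symm {a b : G} (ha : a ∈ D) (hb : b ∈ D) (h : a * b ∈ L) : b * a ∈ L := by
  have := inv_mem h
  rwa [mul_inv_rev, tt_inv S.tt ha, tt_inv S.tt hb] at this

lemma mem_trans {a b c : G} (hb : b ∈ D) (h : a * b ∈ L) (h' : b * c ∈ L) : a * c ∈ L := by
  have := mul_mem h h'
  rwa [show a * b * (b * c) = a * (b * b) * c by group, tt_mul_self S.tt hb, mul_one] at this

lemma centraliser_bot {x : G} (hx : ∀ u ∈ L, Commute x u) : x = 1 :=
  Subgroup.mem_bot.1 (S.triv ▸ centralizer_component_le_center S.cls S.core2 S.core3 S.comp hx)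

lemma simple : IsSimpleGroup ↥L := by
  have hz : Subgroup.center L = ⊥ := by
    rw [eq_bot_iff]
    intro z hz
    refine Subgroup.mem_bot.2 (Subtype.ext ?_)
    exact S.centraliser_bot fun u hu =>
      (congrArg Subtype.val (Subgroup.mem_center_iff.1 hz ⟨u, hu⟩)).symm
  haveI : Nontrivial L := (Subgroup.nontrivial_iff_ne_bot L).2 (Comp.isComponent_ne_bot S.comp)
  refine ⟨fun N hN => ?_⟩
  rcases Comp.normal_eq_top_or_le_center S.comp.2 (N := N) hN with h | h
  · exact Or.inr h
  · exact Or.inl (le_bot_iff.1 (hz ▸ h))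

/-- The class is not contained in one coset. -/
lemma exists_outside (d : G) (hd : d ∈ D) : ∃ c ∈ D, d * c ∉ L := by
  by_contra h
  push Not at h
  haveI := S.normal
  have hidx : L.index ≤ 2 := by
    refine index_le_two_of_le S.cls ?_
    rw [commutator_def, Subgroup.commutator_le]
    intro x _ y _
    set q := QuotientGroup.mk' L
    have hle : ∀ g : G, q g ∈ Subgroup.zpowers (q d) := fun g => by
      have hle : Subgroup.closure D ≤ (Subgroup.zpowers (q d)).comap q := by
        rw [Subgroup.closure_le]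
        intro e he
        show q e ∈ Subgroup.zpowers (q d)
        have h1 : q (d * e) = 1 := (QuotientGroup.eq_one_iff _).2 (h e he)
        rw [map_mul, mul_eq_one_iff_eq_inv'] at h1
        rw [h1]
        exact inv_mem (Subgroup.mem_zpowers _)
      exact hle (S.cls.2.2 ▸ Subgroup.mem_top g)
    obtain ⟨i, hi⟩ := hle x
    obtain ⟨j, hj⟩ := hle y
    refine (QuotientGroup.eq_one_iff _).1 ?_
    show q _ = 1
    rw [map_commutatorElement, ← hi, ← hj]
    exact commutatorElement_eq_one_iff_mul_comm.2 ((Commute.refl _).zpow_zpow i j).eq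
  exact S.disc (connected_of_primitive S.cls
    (primitive_of_index_le_two S.cls S.ne_two S.core2 S.core3 S.comp hidx) S.width)

lemma not_mem {d : G} (hd : d ∈ D) : d ∉ L := by
  intro hdL
  haveI := S.normal
  obtain ⟨c, hc, hdc⟩ := S.exists_outside d hd
  obtain ⟨g, rfl⟩ := class_isConj S.cls hd hc
  exact hdc (mul_mem hdL (S.normal.conj_mem d hdL g))

lemma not_commute {a c : G} (ha : a ∈ D) (hc : c ∈ D) (h : a * c ∉ L) : ¬ Commute a c :=
  fun hcm => h (S.mem_of_commute ha hc hcm)

/-- The subgroup `L` is transitive on each piece. -/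
lemma transitive {d b : G} (hd : d ∈ D) (hb : b ∈ D) (h : d * b ∈ L) :
    ∃ x ∈ L, x * d * x⁻¹ = b := by
  obtain ⟨c, hc, hdc⟩ := S.exists_outside d hd
  have hcc := tt_mul_self S.tt hc
  have hci := tt_inv S.tt hc
  have h1 := S.not_commute hd hc hdc
  have h2 : ¬ Commute b c := S.not_commute hb hc fun hbc => hdc (S.mem_trans hb h hbc)
  have hg1 : (d * c) * d * (d * c)⁻¹ = c := by
    rw [mul_inv_rev, hci, tt_inv S.tt hd]
    calc d * c * d * (c * d) = d * (c * d * c) * d := by simp only [mul_assoc]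
      _ = d * (d * c * d) * d := by rw [tt_braid S.tt hd hc h1]
      _ = (d * d) * c * (d * d) := by simp only [mul_assoc]
      _ = c := by rw [tt_mul_self S.tt hd, one_mul, mul_one]
  have hg2 : (c * b) * c * (c * b)⁻¹ = b := by
    rw [mul_inv_rev, hci, tt_inv S.tt hb]
    calc c * b * c * (b * c) = c * (b * c * b) * c := by simp only [mul_assoc]
      _ = c * (c * b * c) * c := by rw [tt_braid S.tt hb hc h2]
      _ = (c * c) * b * (c * c) := by simp only [mul_assoc]
      _ = b := by rw [hcc, one_mul, mul_one]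
  refine ⟨(c * b) * (d * c), ?_, ?_⟩
  · have := S.normal.conj_mem _ (S.mem_symm hd hb h) c
    rw [hci] at this
    simpa [mul_assoc] using this
  · calc (c * b) * (d * c) * d * ((c * b) * (d * c))⁻¹
        = (c * b) * ((d * c) * d * (d * c)⁻¹) * (c * b)⁻¹ := by group
      _ = b := by rw [hg1, hg2]

/-- A member of a piece has a partner in it. -/
lemma exists_partner {d : G} (hd : d ∈ D) : ∃ b ∈ D, b ≠ d ∧ Commute d b ∧ d * b ∈ L := by
  obtain ⟨a, ha, b, hb, hne, hc⟩ := S.width
  obtain ⟨g, rfl⟩ := class_isConj S.cls ha hd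
  have hc' := (conj_commute_iff g a b).2 hc
  exact ⟨g * b * g⁻¹, S.conj g b hb, fun e => hne (mul_left_cancel (mul_right_cancel e)).symm, hc',
    S.mem_of_commute hd (S.conj g b hb) hc'⟩

end Setup

/-- The members congruent to `d`. -/
def coset (D : Set G) (L : Subgroup G) (d : G) : Set G := {b | b ∈ D ∧ d * b ∈ L}

/-- The group of one piece. -/
abbrev grp (L : Subgroup G) (d : G) : Subgroup G := L ⊔ Subgroup.zpowers d

/-- The class of one piece inside its group. -/
def piece (D : Set G) (L : Subgroup G) (d : G) : Set ↥(grp L d) := {x | (x : G) ∈ coset D L d}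

namespace Setup

variable {L : Subgroup G} (S : Setup D L) {d : G} (hd : d ∈ D)
include S hd

lemma self_mem : d ∈ coset D L d := ⟨hd, by rw [tt_mul_self S.tt hd]; exact one_mem L⟩

lemma coset_le {b : G} (hb : b ∈ coset D L d) : b ∈ grp L d := by
  have : b = d * (d * b) := by rw [← mul_assoc, tt_mul_self S.tt hd, one_mul]
  rw [this]
  exact mul_mem (Subgroup.mem_sup_right (Subgroup.mem_zpowers d)) (Subgroup.mem_sup_left hb.2)

lemma grp_cases {g : G} (hg : g ∈ grp L d) : g ∈ L ∨ g * d ∈ L := by
  haveI := S.normal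
  rw [grp, Subgroup.mem_sup_of_normal_left] at hg
  obtain ⟨l, hl, z, ⟨k, rfl⟩, rfl⟩ := hg
  have hdd : d ^ (2 : ℤ) = 1 := by rw [zpow_two, tt_mul_self S.tt hd]
  rcases Int.even_or_odd k with ⟨j, rfl⟩ | ⟨j, rfl⟩
  · left
    simp only [← two_mul, zpow_mul, hdd, one_zpow, mul_one]
    exact hl
  · right
    simp only [zpow_add_one, zpow_mul, hdd, one_zpow, one_mul]
    rw [mul_assoc, tt_mul_self S.tt hd, mul_one]
    exact hl

lemma coset_conj {g b : G} (hg : g ∈ grp L d) (hb : b ∈ coset D L d) :
    g * b * g⁻¹ ∈ coset D L d := by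
  haveI := S.normal
  refine ⟨S.conj g b hb.1, ?_⟩
  set q := QuotientGroup.mk' L
  have hqb : q b = q d := by
    have h1 : q (d * b) = 1 := (QuotientGroup.eq_one_iff _).2 hb.2
    rw [map_mul, mul_eq_one_iff_eq_inv'] at h1
    rw [h1, ← map_inv, tt_inv S.tt hd]
  have hqg : Commute (q g) (q d) := by
    rcases S.grp_cases hd hg with h | h
    · rw [show q g = 1 from (QuotientGroup.eq_one_iff _).2 h]
      exact Commute.one_left _
    · have h1 : q (g * d) = 1 := (QuotientGroup.eq_one_iff _).2 h
      rw [map_mul, mul_eq_one_iff_eq_inv] at h1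
      rw [h1]
      exact (Commute.refl _).inv_left
  refine (QuotientGroup.eq_one_iff _).1 ?_
  show q _ = 1
  rw [map_mul, map_mul, map_mul, map_inv, hqb, hqg.eq, mul_inv_cancel_right, ← map_mul,
    tt_mul_self S.tt hd, map_one]

lemma closure_coset : Subgroup.closure (coset D L d) = grp L d := by
  haveI := S.normal
  set K := Subgroup.closure (coset D L d) with hK
  have hKH : K ≤ grp L d := (Subgroup.closure_le _).2 fun b hb => S.coset_le hd hb
  refine le_antisymm hKH ?_
  haveI hn : (K.subgroupOf L).Normal := by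
    refine ⟨fun x hx l => ?_⟩
    rw [Subgroup.mem_subgroupOf] at hx ⊢
    push_cast
    have hle : K ≤ K.comap (MulAut.conj (l : G)).toMonoidHom := by
      rw [hK, Subgroup.closure_le]
      intro b hb
      exact Subgroup.subset_closure (S.coset_conj hd (Subgroup.mem_sup_left l.2) hb)
    exact hle hx
  haveI := S.simple
  have hLK : L ≤ K := by
    rcases hn.eq_bot_or_eq_top with h | h
    · exfalso
      obtain ⟨b, hb, hne, -, hm⟩ := S.exists_partner hd
      have h1 : (⟨d * b, hm⟩ : L) ∈ K.subgroupOf L := Subgroup.mem_subgroupOf.2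
        (mul_mem (Subgroup.subset_closure (S.self_mem hd)) (Subgroup.subset_closure ⟨hb, hm⟩))
      rw [h, Subgroup.mem_bot] at h1
      exact hne (by rw [eq_inv_of_mul_eq_one_right (congrArg Subtype.val h1), tt_inv S.tt hd])
    · exact Subgroup.subgroupOf_eq_top.1 h
  exact sup_le hLK (Subgroup.zpowers_le.2 (Subgroup.subset_closure (S.self_mem hd)))

theorem piece_cls : IsThreeTranspositionClass (piece D L d) := by
  refine ⟨⟨fun x hx => ?_, fun x hx y hy => ?_⟩, ⟨⟨d, S.coset_le hd (S.self_mem hd)⟩,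
    S.self_mem hd, ?_⟩, ?_⟩
  · rw [← Subgroup.orderOf_coe]
    exact S.tt.1 x hx.1
  · rcases S.tt.2 x hx.1 y hy.1 with h | h
    · exact Or.inl (Subtype.ext (by push_cast; exact h))
    · exact Or.inr (Subtype.ext (by push_cast; exact h))
  · ext x
    simp only [conjugatesOf, Set.mem_ofPred_eq, isConj_iff]
    constructor
    · intro hx
      obtain ⟨l, hl, hlx⟩ := S.transitive hd hx.1 hx.2
      exact ⟨⟨l, Subgroup.mem_sup_left hl⟩, Subtype.ext (by push_cast; exact hlx)⟩
    · rintro ⟨g, rfl⟩
      exact S.coset_conj hd g.2 (S.self_mem hd)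
  · apply Subgroup.map_injective (grp L d).subtype_injective
    rw [MonoidHom.map_closure, ← MonoidHom.range_eq_map, Subgroup.range_subtype]
    refine Eq.trans ?_ (S.closure_coset hd)
    congr 1
    ext b
    exact ⟨fun ⟨x, hx, e⟩ => e ▸ hx, fun hb => ⟨⟨b, S.coset_le hd hb⟩, hb, rfl⟩⟩

theorem piece_center : Subgroup.center ↥(grp L d) = ⊥ := by
  rw [eq_bot_iff]
  intro z hz
  refine Subgroup.mem_bot.2 (Subtype.ext (S.centraliser_bot fun u hu => ?_))
  exact (congrArg Subtype.val
    (Subgroup.mem_center_iff.1 hz ⟨u, Subgroup.mem_sup_left hu⟩)).symm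

theorem piece_commutator : (commutator ↥(grp L d)).map (grp L d).subtype = L := by
  haveI := S.normal
  rw [Subgroup.map_subtype_commutator]
  refine le_antisymm ?_ ?_
  · rw [Subgroup.commutator_le]
    intro x hx y hy
    set q := QuotientGroup.mk' L
    have hle : ∀ g ∈ grp L d, q g ∈ Subgroup.zpowers (q d) := fun g hg => by
      rcases S.grp_cases hd hg with h | h
      · rw [show q g = 1 from (QuotientGroup.eq_one_iff _).2 h]
        exact one_mem _
      · have h1 : q (g * d) = 1 := (QuotientGroup.eq_one_iff _).2 h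
        rw [map_mul, mul_eq_one_iff_eq_inv] at h1
        rw [h1]
        exact inv_mem (Subgroup.mem_zpowers _)
    obtain ⟨i, hi⟩ := hle x hx
    obtain ⟨j, hj⟩ := hle y hy
    refine (QuotientGroup.eq_one_iff _).1 ?_
    show q _ = 1
    rw [map_commutatorElement, ← hi, ← hj]
    exact commutatorElement_eq_one_iff_mul_comm.2 ((Commute.refl _).zpow_zpow i j).eq
  · calc L = ⁅L, L⁆ := (Comp.isComponent_perfect S.comp).symm
      _ ≤ ⁅grp L d, grp L d⁆ := Subgroup.commutator_mono le_sup_left le_sup_left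

/-- The derived group of the group of one piece is `L`. -/
noncomputable def pieceEquiv : ↥(commutator ↥(grp L d)) ≃* ↥L :=
  ((commutator ↥(grp L d)).equivMapOfInjective (grp L d).subtype
    (grp L d).subtype_injective).trans (MulEquiv.subgroupCongr (S.piece_commutator hd))

lemma pieceEquiv_coe (x : ↥(commutator ↥(grp L d))) :
    (S.pieceEquiv hd x : G) = ((x : ↥(grp L d)) : G) := rfl

theorem piece_simple : IsSimpleGroup ↥(commutator ↥(grp L d)) :=
  haveI := S.simple
  (S.pieceEquiv hd).isSimpleGroup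

theorem piece_width : ∃ a ∈ piece D L d, ∃ b ∈ piece D L d, a ≠ b ∧ Commute a b := by
  obtain ⟨b, hb, hne, hc, hm⟩ := S.exists_partner hd
  exact ⟨⟨d, S.coset_le hd (S.self_mem hd)⟩, S.self_mem hd, ⟨b, S.coset_le hd ⟨hb, hm⟩⟩,
    ⟨hb, hm⟩, fun e => hne (congrArg Subtype.val e).symm, Subtype.ext hc.eq⟩

theorem piece_prim : IsPrimitiveUnderConj (piece D L d) := by
  have hs := S.piece_simple hd
  refine (H99.fischer_of_simple (S.piece_cls hd) hs ?_).1
  by_contra hab
  push Not at hab
  exact H99.comm_derived_absurd (S.piece_cls hd) hs hab (S.piece_center hd) (S.piece_width hd)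

end Setup

end H88.Disc
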