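/-
What a second piece leaves in the group of the first one.
-/
import Cfsg.Agent.H88.Disc.Setup
import Cfsg.Agent.H88.Disc.Defs

set_option autoImplicit false

namespace H88.Disc

open Cfsg H99

universe u

variable {G : Type u} [Group G] [Finite G] {D : Set G}

namespace Setup

variable {L : Subgroup G} (S : Setup D L) {d : G} (hd : d ∈ D)
include S hd

lemma pairs_le {z : G} (hz : z ∈ pairProd (coset D L d)) : z ∈ L := by
  obtain ⟨a, ha, b, hb, -, -, rfl⟩ := hz
  refine S.mem_trans hd (S.mem_symm hd ha.1 ha.2) hb.2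

lemma pairs_mul_self {z : G} (hz : z ∈ pairProd (coset D L d)) : z * z = 1 := by
  obtain ⟨a, ha, b, hb, -, hc, rfl⟩ := hz
  rw [← pow_two]
  exact invol_sq_eq_one_of_commute (tt_mul_self S.tt ha.1) (tt_mul_self S.tt hb.1) hc

/-- The pair products of one piece move every member outside it to a partner. -/
lemma pairs_shift {z : G} (hz : z ∈ pairProd (coset D L d)) {a : G} (ha : a ∈ D)
    (hda : d * a ∉ L) : z * a * z⁻¹ ≠ a ∧ Commute a (z * a * z⁻¹) := by
  obtain ⟨f, hf, f', hf', hne, hc, rfl⟩ := hz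
  have h : ∀ f ∈ coset D L d, ¬ Commute a f := fun f hf =>
    S.not_commute ha hf.1 fun hL => hda (S.mem_trans hf.1 hf.2 (S.mem_symm ha hf.1 hL))
  have := pair_shift S.tt ha hf.1 hf'.1 hne hc (h f hf) (h f' hf')
  exact ⟨this.1, this.2.1⟩

/-- The pair products of two pieces are different. -/
lemma pairs_disjoint {e : G} (he : e ∈ D) (hde : d * e ∉ L) {z : G}
    (h1 : z ∈ pairProd (coset D L d)) (h2 : z ∈ pairProd (coset D L e)) : False := by
  obtain ⟨f, hf, f', hf', hne, hc, rfl⟩ := h2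
  refine (S.pairs_shift hd h1 hf.1 fun hL => hde (S.mem_trans hf.1 hL (S.mem_symm he hf.1 hf.2))).1 ?_
  exact mul_inv_eq_iff_eq_mul.2 (((Commute.refl f).mul_left hc.symm)).eq

/-- Conjugation carries pieces to pieces. -/
lemma coset_image (g : G) :
    (fun x => g * x * g⁻¹) '' coset D L d = coset D L (g * d * g⁻¹) := by
  haveI := S.normal
  have key : ∀ (h x y : G), x * y ∈ L → (h * x * h⁻¹) * (h * y * h⁻¹) ∈ L := fun h x y hxy => by
    rw [show (h * x * h⁻¹) * (h * y * h⁻¹) = h * (x * y) * h⁻¹ by group]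
    exact S.normal.conj_mem _ hxy h
  ext y
  constructor
  · rintro ⟨x, hx, rfl⟩
    exact ⟨S.conj g x hx.1, key g d x hx.2⟩
  · rintro ⟨hy, hy'⟩
    refine ⟨g⁻¹ * y * g, ⟨by simpa using S.conj g⁻¹ y hy, ?_⟩, by group⟩
    have := key g⁻¹ _ _ hy'
    rwa [show g⁻¹ * (g * d * g⁻¹) * g⁻¹⁻¹ = d by group, inv_inv] at this

lemma pairs_image (g : G) :
    (fun x => g * x * g⁻¹) '' pairProd (coset D L d) = pairProd (coset D L (g * d * g⁻¹)) := by
  have hinj : ∀ {a b : G}, g * a * g⁻¹ = g * b * g⁻¹ → a = b := fun h =>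
    mul_left_cancel (mul_right_cancel h)
  ext y
  constructor
  · rintro ⟨_, ⟨a, ha, b, hb, hne, hc, rfl⟩, rfl⟩
    exact ⟨_, S.coset_image hd g ▸ ⟨a, ha, rfl⟩, _, S.coset_image hd g ▸ ⟨b, hb, rfl⟩,
      fun h => hne (hinj h), (conj_commute_iff g a b).2 hc,
      by group⟩
  · rintro ⟨a, ha, b, hb, hne, hc, rfl⟩
    rw [← S.coset_image hd g] at ha hb
    obtain ⟨a, ha, rfl⟩ := ha
    obtain ⟨b, hb, rfl⟩ := hb
    exact ⟨a * b, ⟨a, ha, b, hb, fun h => hne (by subst h; rfl), (conj_commute_iff g a b).1 hc,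
      rfl⟩, by group⟩

lemma pairs_ncard {e : G} (he : e ∈ D) :
    (pairProd (coset D L e)).ncard = (pairProd (coset D L d)).ncard := by
  obtain ⟨g, rfl⟩ := class_isConj S.cls hd he
  rw [← S.pairs_image hd g]
  exact Set.ncard_image_of_injective _ fun a b h => mul_left_cancel (mul_right_cancel h)

lemma piece_image : Subtype.val '' piece D L d = coset D L d := by
  ext b
  exact ⟨fun ⟨x, hx, e⟩ => e ▸ hx, fun hb => ⟨⟨b, S.coset_le hd hb⟩, hb, rfl⟩⟩

lemma piece_pairs : (pairProd (piece D L d)).ncard = (pairProd (coset D L d)).ncard := by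
  have : pairProd (coset D L d) = Subtype.val '' pairProd (piece D L d) := by
    ext z
    constructor
    · rintro ⟨a, ha, b, hb, hne, hc, rfl⟩
      exact ⟨_, ⟨⟨a, S.coset_le hd ha⟩, ha, ⟨b, S.coset_le hd hb⟩, hb,
        fun h => hne (congrArg Subtype.val h), Subtype.ext hc.eq, rfl⟩, rfl⟩
    · rintro ⟨_, ⟨a, ha, b, hb, hne, hc, rfl⟩, rfl⟩
      exact ⟨a, ha, b, hb, fun h => hne (Subtype.ext h), congrArg Subtype.val hc.eq, rfl⟩
  rw [this, Set.ncard_image_of_injective _ Subtype.val_injective]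

/-- The centraliser in `L` of a member outside a piece is transitive on it. -/
lemma orbit_eq {f : G} (hf : f ∈ D) (hdf : d * f ∉ L) {b : G} (hb : b ∈ coset D L d) :
    ∃ g ∈ L ⊓ Subgroup.centralizer ({f} : Set G), g * d * g⁻¹ = b := by
  have hconn := connected_of_primitive (S.piece_cls hd) (S.piece_prim hd) (S.piece_width hd)
  have hd' : (⟨d, S.coset_le hd (S.self_mem hd)⟩ : ↥(grp L d)) ∈ piece D L d := S.self_mem hd
  have hb' : (⟨b, S.coset_le hd hb⟩ : ↥(grp L d)) ∈ piece D L d := hb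
  obtain ⟨w⟩ := hconn.preconnected ⟨_, hd'⟩ ⟨_, hb'⟩
  suffices H : ∀ {x y : ↥(piece D L d)}, (commutingGraph (piece D L d)).Walk x y →
      (∃ g ∈ L ⊓ Subgroup.centralizer ({f} : Set G), g * d * g⁻¹ = ((x : ↥(grp L d)) : G)) →
      ∃ g ∈ L ⊓ Subgroup.centralizer ({f} : Set G), g * d * g⁻¹ = ((y : ↥(grp L d)) : G) from
    H w ⟨1, one_mem _, by simp⟩
  intro x y w
  induction w with
  | nil => exact fun h => h
  | @cons x y _ hxy _ ih =>
    rintro ⟨g, hg, hgx⟩
    refine ih ?_
    rw [commutingGraph, SimpleGraph.fromRel_adj] at hxy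
    have hc : Commute ((x : ↥(grp L d)) : G) ((y : ↥(grp L d)) : G) := by
      rcases hxy.2 with h | h
      · exact congrArg Subtype.val h.eq
      · exact (congrArg Subtype.val h.eq).symm
    have hne : ((x : ↥(grp L d)) : G) ≠ ((y : ↥(grp L d)) : G) := fun h =>
      hxy.1 (Subtype.ext (Subtype.ext h))
    set a : G := ((x : ↥(grp L d)) : G) with ha'
    set c : G := ((y : ↥(grp L d)) : G) with hc'
    have ha : a ∈ coset D L d := x.2
    have hcc : c ∈ coset D L d := y.2
    have hnf : ∀ u ∈ coset D L d, ¬ Commute f u := fun u hu =>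
      fun h => S.not_commute hu.1 hf (fun hL => hdf (S.mem_trans hu.1 hu.2 hL)) h.symm
    set f' := (a * c) * f * (a * c)⁻¹ with hf'def
    have hp : a * c ∈ pairProd (coset D L d) := ⟨a, ha, c, hcc, hne, hc, rfl⟩
    obtain ⟨hne', hcom, hswap⟩ := pair_shift S.tt hf ha.1 hcc.1 hne hc (hnf a ha) (hnf c hcc)
    have hf'D : f' ∈ D := S.conj _ f hf
    refine ⟨(f * f') * g, ⟨?_, ?_⟩, ?_⟩
    · exact mul_mem (S.mem_of_commute hf hf'D hcom) hg.1
    · refine mul_mem (Subgroup.mem_centralizer_singleton_iff.2 ?_) hg.2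
      exact ((Commute.refl f).mul_left hcom.symm).eq
    · calc (f * f') * g * d * ((f * f') * g)⁻¹ = (f * f') * (g * d * g⁻¹) * (f * f')⁻¹ := by group
        _ = c := by rw [hgx]; exact hswap

lemma dvd {f : G} (hf : f ∈ D) (hdf : d * f ∉ L) :
    (piece D L d).ncard ∣ Nat.card (Subgroup.centralizer
      ({⟨d, S.coset_le hd (S.self_mem hd)⟩} : Set ↥(grp L d))) := by
  haveI := S.normal
  set J := L ⊓ Subgroup.centralizer ({f} : Set G) with hJ
  letI : MulAction ↥J G := MulAction.compHom G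
    ((MulAut.conj).comp J.subtype)
  have horb : MulAction.orbit ↥J d = coset D L d := by
    ext b
    constructor
    · rintro ⟨g, rfl⟩
      exact S.coset_conj hd (Subgroup.mem_sup_left g.2.1) (S.self_mem hd)
    · intro hb
      obtain ⟨g, hg, hgd⟩ := S.orbit_eq hd hf hdf hb
      exact ⟨⟨g, hg⟩, hgd⟩
  have h1 : (coset D L d).ncard ∣ Nat.card ↥J := by
    classical
    letI := Fintype.ofFinite ↥J
    letI := Fintype.ofFinite ↥(MulAction.orbit ↥J d)
    have := MulAction.card_orbit_mul_card_stabilizer_eq_card_group ↥J d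
    rw [← Nat.card_coe_set_eq, ← horb, Nat.card_eq_fintype_card, Nat.card_eq_fintype_card, ← this]
    exact Dvd.intro _ rfl
  obtain ⟨g, hg⟩ := class_isConj S.cls hf hd
  have h2 : J.map (MulAut.conj g).toMonoidHom ≤
      (Subgroup.centralizer ({⟨d, S.coset_le hd (S.self_mem hd)⟩} : Set ↥(grp L d))).map
        (grp L d).subtype := by
    rintro _ ⟨x, hx, rfl⟩
    have hxL : g * x * g⁻¹ ∈ L := S.normal.conj_mem x hx.1 g
    refine ⟨⟨g * x * g⁻¹, Subgroup.mem_sup_left hxL⟩,
      Subgroup.mem_centralizer_singleton_iff.2 (Subtype.ext ?_), rfl⟩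
    show g * x * g⁻¹ * d = d * (g * x * g⁻¹)
    have hxf : Commute x f := Subgroup.mem_centralizer_singleton_iff.1 hx.2
    rw [← hg]
    exact ((conj_commute_iff g x f).2 hxf).eq
  have h3 := Subgroup.card_dvd_of_le h2
  rw [Subgroup.card_map_of_injective (MulAut.conj g).injective,
    Subgroup.card_map_of_injective (grp L d).subtype_injective] at h3
  have h4 : (piece D L d).ncard = (coset D L d).ncard := by
    rw [← S.piece_image hd, Set.ncard_image_of_injective _ Subtype.val_injective]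
  rw [h4]
  exact h1.trans h3

/-- A second piece gives a twist. -/
theorem twist {e : G} (he : e ∈ D) (hde : d * e ∉ L) :
    Twist (piece D L d) {x : ↥(grp L d) | (x : G) ∈ pairProd (coset D L e)} := by
  haveI := S.normal
  refine ⟨fun x hx => ⟨Subtype.ext (S.pairs_mul_self he hx), fun a ha => ?_⟩, fun x hx => ?_,
    fun h hh x hx => ?_, ?_, ?_, fun a ha => ?_⟩
  · obtain ⟨h1, h2⟩ := S.pairs_shift he hx ha.1 fun hL =>
      hde (S.mem_trans ha.1 ha.2 (S.mem_symm he ha.1 hL))
    exact ⟨fun h => h1 (congrArg Subtype.val h), Subtype.ext h2.eq⟩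
  · obtain ⟨y, hy, hyx⟩ : (x : G) ∈ (commutator ↥(grp L d)).map (grp L d).subtype := by
      rw [S.piece_commutator hd]; exact S.pairs_le he hx
    have hyx' : y = x := Subtype.ext hyx
    exact hyx' ▸ hy
  · have hhL : (h : G) ∈ L := (S.piece_commutator hd).le ⟨h, hh, rfl⟩
    obtain ⟨a, ha, b, hb, hne, hc, hab⟩ := hx
    have hcc : ∀ u ∈ coset D L e, (h : G) * u * (h : G)⁻¹ ∈ coset D L e := fun u hu =>
      S.coset_conj he (Subgroup.mem_sup_left hhL) hu
    refine ⟨_, hcc a ha, _, hcc b hb, fun hh' => hne (mul_left_cancel (mul_right_cancel hh')),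
      (conj_commute_iff _ a b).2 hc, ?_⟩
    push_cast
    rw [← hab]
    group
  · obtain ⟨b, hb, hne, hc, hm⟩ := S.exists_partner he
    have hp : e * b ∈ pairProd (coset D L e) := ⟨e, S.self_mem he, b, ⟨hb, hm⟩, hne.symm, hc, rfl⟩
    exact ⟨⟨e * b, Subgroup.mem_sup_left hm⟩, hp⟩
  · rw [S.piece_pairs hd, ← S.pairs_ncard hd he, ← Set.ncard_image_of_injective _
      (Subtype.val_injective)]
    congr 1
    ext z
    exact ⟨fun ⟨x, hx, e'⟩ => e' ▸ hx,
      fun hz => ⟨⟨z, Subgroup.mem_sup_left (S.pairs_le he hz)⟩, hz, rfl⟩⟩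
  · obtain ⟨x, hx⟩ := class_isConj (S.piece_cls hd)
      (show (⟨d, S.coset_le hd (S.self_mem hd)⟩ : ↥(grp L d)) ∈ piece D L d from S.self_mem hd) ha
    have h1 := S.dvd hd he hde
    suffices hcard : (Subgroup.centralizer ({⟨d, S.coset_le hd (S.self_mem hd)⟩} :
        Set ↥(grp L d))).map (MulAut.conj x).toMonoidHom =
        Subgroup.centralizer ({a} : Set ↥(grp L d)) by
      rw [← hcard, Subgroup.card_map_of_injective (MulAut.conj x).injective]
      exact h1
    rw [← hx]
    ext y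
    obtain ⟨y, rfl⟩ := (MulAut.conj x).surjective y
    rw [← MulEquiv.coe_toMonoidHom, Subgroup.mem_map_iff_mem (MulAut.conj x).injective,
      Subgroup.mem_centralizer_singleton_iff, Subgroup.mem_centralizer_singleton_iff]
    simp only [MulEquiv.coe_toMonoidHom, MulAut.conj_apply]
    exact (conj_commute_iff x y _).symm

end Setup

end H88.Disc
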