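/-
The number of pieces, and the quotient when there are three.
-/
import Cfsg.Agent.H88.Disc.Twist
import Cfsg.Agent.H45.Narrow.Main

set_option autoImplicit false

namespace H88.Disc

open Cfsg H99

universe u

variable {G : Type u} [Group G] [Finite G] {D : Set G}

namespace Setup

variable {L : Subgroup G} (S : Setup D L) [L.Normal]
include S

lemma mk_eq_iff {a b : G} (ha : a ∈ D) :
    (QuotientGroup.mk a : G ⧸ L) = QuotientGroup.mk b ↔ a * b ∈ L := by
  rw [QuotientGroup.eq, tt_inv S.tt ha]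

lemma commute_iff {a b : G} (ha : a ∈ D) (hb : b ∈ D) :
    Commute (QuotientGroup.mk a : G ⧸ L) (QuotientGroup.mk b) ↔ a * b ∈ L := by
  constructor
  · intro h
    have hm : a * b * a⁻¹ * b⁻¹ ∈ L := by
      rw [← QuotientGroup.eq_one_iff, QuotientGroup.mk_mul, QuotientGroup.mk_mul, QuotientGroup.mk_mul,
        QuotientGroup.mk_inv, QuotientGroup.mk_inv, h.eq, mul_inv_cancel_right, mul_inv_cancel]
    have := inv_mul_mem_of_commutator_mem S.cls S.comp ha hb hm
    rwa [tt_inv S.tt ha] at this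
  · intro h
    rw [(S.mk_eq_iff ha).2 h]

/-- The images of the class. -/
def imgs (_S : Setup D L) : Set (G ⧸ L) := QuotientGroup.mk '' D

lemma imgs_conj : ∀ q : G ⧸ L, ∀ u ∈ S.imgs, q * u * q⁻¹ ∈ S.imgs := by
  rintro q _ ⟨a, ha, rfl⟩
  obtain ⟨g, rfl⟩ := QuotientGroup.mk_surjective q
  exact ⟨g * a * g⁻¹, S.conj g a ha, by simp⟩

lemma imgs_cube : ∀ u ∈ S.imgs, ∀ v ∈ S.imgs, (u * v) ^ 3 = 1 := by
  rintro _ ⟨a, ha, rfl⟩ _ ⟨b, hb, rfl⟩
  by_cases hab : Commute a b
  · rw [← QuotientGroup.mk_mul, ← QuotientGroup.mk_pow, QuotientGroup.eq_one_iff]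
    exact pow_mem (S.mem_of_commute ha hb hab) 3
  · rw [← QuotientGroup.mk_mul, ← QuotientGroup.mk_pow, tt_cube_of_not_commute S.tt ha hb hab,
      QuotientGroup.mk_one]

/-- The number of pieces is a power of three. -/
theorem imgs_card {d : G} (hd : d ∈ D) : ∃ j : ℕ, S.imgs.ncard = 3 ^ j := by
  haveI : Fact (Nat.Prime 3) := ⟨Nat.prime_three⟩
  set M := Cfsg.pCore 3 (G ⧸ L) with hM
  letI : MulAction ↥M (G ⧸ L) := MulAction.compHom _ ((MulAut.conj).comp M.subtype)
  have horb : MulAction.orbit ↥M (QuotientGroup.mk d : G ⧸ L) = S.imgs := by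
    ext u
    constructor
    · rintro ⟨x, rfl⟩
      exact S.imgs_conj _ _ ⟨d, hd, rfl⟩
    · rintro ⟨e, he, rfl⟩
      by_cases hde : d * e ∈ L
      · exact ⟨1, by simp [(S.mk_eq_iff hd).2 hde]⟩
      · have hm : (QuotientGroup.mk d * QuotientGroup.mk e : G ⧸ L) ∈ M :=
          width_one_mem_pCore (D := S.imgs) (fun u hu => by
              obtain ⟨a, ha, rfl⟩ := hu
              rw [← QuotientGroup.mk_mul, tt_mul_self S.tt ha, QuotientGroup.mk_one])
            S.imgs_conj S.imgs_cube ⟨d, hd, rfl⟩ ⟨e, he, rfl⟩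
        refine ⟨⟨_, hm⟩, ?_⟩
        show (QuotientGroup.mk d * QuotientGroup.mk e : G ⧸ L) * QuotientGroup.mk d *
          (QuotientGroup.mk d * QuotientGroup.mk e)⁻¹ = QuotientGroup.mk e
        simp only [← QuotientGroup.mk_mul, ← QuotientGroup.mk_inv]
        congr 1
        rw [mul_inv_rev, tt_inv S.tt hd, tt_inv S.tt he]
        calc d * e * d * (e * d) = d * (e * d * e) * d := by simp only [mul_assoc]
          _ = d * (d * e * d) * d := by rw [tt_braid S.tt hd he (S.not_commute hd he hde)]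
          _ = (d * d) * e * (d * d) := by simp only [mul_assoc]
          _ = e := by rw [tt_mul_self S.tt hd, one_mul, mul_one]
  obtain ⟨j, hj⟩ := (H1.isPGroup_pCore 3 (G ⧸ L)).card_orbit (QuotientGroup.mk d : G ⧸ L)
  exact ⟨j, by rw [← hj, ← horb, Nat.card_coe_set_eq]⟩

/-- Few twists leave three pieces. -/
theorem imgs_three {d : G} (hd : d ∈ D) (hfew : FewShifts (piece D L d)) : S.imgs.ncard = 3 := by
  classical
  obtain ⟨j, hj⟩ := S.imgs_card hd
  obtain ⟨c, hc, hdc⟩ := S.exists_outside d hd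
  have h2 : 2 ≤ S.imgs.ncard := by
    rw [Nat.succ_le_iff, Set.one_lt_ncard_iff (Set.toFinite _)]
    exact ⟨_, _, ⟨d, hd, rfl⟩, ⟨c, hc, rfl⟩, fun h => hdc ((S.mk_eq_iff hd).1 h)⟩
  set O : Set (G ⧸ L) := S.imgs \ {QuotientGroup.mk d} with hO
  choose r hrD hr using fun u : O => u.2.1
  have hout : ∀ u : O, d * r u ∉ L := fun u h => u.2.2 (by
    rw [Set.mem_singleton_iff, ← hr u, (S.mk_eq_iff hd).2 h])
  let T : O → Set ↥(grp L d) := fun u => {x | (x : G) ∈ pairProd (coset D L (r u))}
  let f : (Σ u : O, ↥(T u)) → ↥{g : ↥(grp L d) | g ∈ commutator ↥(grp L d) ∧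
      IsShift (piece D L d) g} := fun p =>
    ⟨p.2, (S.twist hd (hrD p.1) (hout p.1)).mem _ p.2.2,
      (S.twist hd (hrD p.1) (hout p.1)).shift _ p.2.2⟩
  have hf : Function.Injective f := by
    rintro ⟨u, x, hx⟩ ⟨v, y, hy⟩ hxy
    obtain rfl : x = y := congrArg Subtype.val hxy
    have huv : u = v := by
      refine Subtype.ext ?_
      rw [← hr u, ← hr v, S.mk_eq_iff (hrD u)]
      by_contra h
      exact S.pairs_disjoint (hrD u) (hrD v) h hx hy
    subst huv
    rfl
  have h := Nat.card_le_card_of_injective f hf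
  letI := Fintype.ofFinite O
  rw [Nat.card_sigma, Finset.sum_congr rfl (fun u _ => show Nat.card ↥(T u) =
    (pairProd (piece D L d)).ncard from by
      rw [Nat.card_coe_set_eq]; exact (S.twist hd (hrD u) (hout u)).card),
    Finset.sum_const, Finset.card_univ, smul_eq_mul, ← Nat.card_eq_fintype_card,
    Nat.card_coe_set_eq, Nat.card_coe_set_eq, hO,
    Set.ncard_sdiff_singleton_of_mem (show QuotientGroup.mk d ∈ S.imgs from ⟨d, hd, rfl⟩)] at h
  unfold FewShifts at hfew
  have h8 : S.imgs.ncard - 1 < 8 := Nat.lt_of_mul_lt_mul_right (lt_of_le_of_lt h hfew)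
  have : j < 2 := by
    by_contra hj2
    have : 3 ^ 2 ≤ 3 ^ j := Nat.pow_le_pow_right (by norm_num) (by omega)
    omega
  interval_cases j <;> omega

/-- Three pieces give the symmetric group of degree three. -/
theorem quot_equiv (h3 : S.imgs.ncard = 3) : Nonempty (G ⧸ L ≃* Equiv.Perm (Fin 3)) := by
  classical
  set E := S.imgs with hE
  have hconj := S.imgs_conj
  have hgen : Subgroup.closure E = ⊤ := by
    rw [hE, imgs, ← QuotientGroup.coe_mk', ← MonoidHom.map_closure, S.cls.2.2,
      Subgroup.map_top_of_surjective _ (QuotientGroup.mk'_surjective L)]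
  have hsq : ∀ x ∈ E, x * x = 1 := by
    rintro _ ⟨a, ha, rfl⟩
    rw [← QuotientGroup.mk_mul, tt_mul_self S.tt ha, QuotientGroup.mk_one]
  have hne : ∀ x ∈ E, ∀ y ∈ E, Commute x y → x = y := by
    rintro _ ⟨a, ha, rfl⟩ _ ⟨b, hb, rfl⟩ h
    exact (S.mk_eq_iff ha).2 ((S.commute_iff ha hb).1 h)
  obtain ⟨x, hx, y, hy, hxy⟩ : ∃ x ∈ E, ∃ y ∈ E, x ≠ y :=
    (Set.one_lt_ncard (Set.toFinite _)).1 (by rw [h3]; norm_num)
  have hcxy : ¬ Commute x y := fun h => hxy (hne x hx y hy h)
  have hxx := hsq x hx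
  have hyy := hsq y hy
  have hzE : x * y * x ∈ E := by
    have := hconj x y hy
    rwa [inv_eq_of_mul_eq_one_right hxx] at this
  have hzx : x * y * x ≠ x := fun h => hxy (by
    have : x * y * x * x = x * x := by rw [h]
    rw [mul_assoc, hxx, mul_one] at this
    rw [← inv_eq_of_mul_eq_one_right this, inv_eq_of_mul_eq_one_right hxx])
  have hzy : x * y * x ≠ y := fun h => hcxy (by
    show x * y = y * x
    calc x * y = x * y * (x * x) := by rw [hxx, mul_one]
      _ = y * x := by rw [← mul_assoc, h])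
  have hEq : E = {x, y, x * y * x} := by
    refine Eq.symm (Set.eq_of_subset_of_ncard_le ?_ ?_ (Set.toFinite _))
    · rintro u (rfl | rfl | rfl) <;> assumption
    · rw [h3, Set.ncard_insert_of_notMem (by simp [hxy, Ne.symm hzx]) (Set.toFinite _),
        Set.ncard_pair (Ne.symm hzy)]
  have hbraid : x * y * x = y * x * y := by
    have h' : y * x * y ∈ E := by
      have := hconj y x hx
      rwa [inv_eq_of_mul_eq_one_right hyy] at this
    rw [hEq] at h'
    rcases h' with h' | h' | h'
    · exact absurd (show x * y = y * x by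
        calc x * y = y * x * y * y := by rw [h']
          _ = y * x := by rw [mul_assoc _ y y, hyy, mul_one]) hcxy
    · exact absurd (by
        have h'' : y * x * y * y = y * y := by rw [Set.mem_singleton_iff.1 h']
        rw [mul_assoc, hyy, mul_one] at h''
        rw [← inv_eq_of_mul_eq_one_right h'', inv_eq_of_mul_eq_one_right hyy]) hxy
    · exact (Set.mem_singleton_iff.1 h').symm
  -- the six elements
  have hsix : ∀ q : G ⧸ L, q = 1 ∨ q = x ∨ q = y ∨ q = x * y ∨ q = y * x ∨ q = x * y * x := by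
    intro q
    have hq : q ∈ Subgroup.closure ({x, y} : Set (G ⧸ L)) := by
      have hle : Subgroup.closure E ≤ Subgroup.closure ({x, y} : Set (G ⧸ L)) := by
        rw [Subgroup.closure_le, hEq]
        have hx' : x ∈ Subgroup.closure ({x, y} : Set (G ⧸ L)) :=
          Subgroup.subset_closure (by simp)
        have hy' : y ∈ Subgroup.closure ({x, y} : Set (G ⧸ L)) :=
          Subgroup.subset_closure (by simp)
        rintro u (rfl | rfl | rfl)
        exacts [hx', hy', mul_mem (mul_mem hx' hy') hx']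
      exact hle (hgen ▸ Subgroup.mem_top q)
    have hstep : ∀ w ∈ ({x, y} : Set (G ⧸ L)), ∀ q, (q = 1 ∨ q = x ∨ q = y ∨ q = x * y ∨ q = y * x ∨
        q = x * y * x) → (q * w = 1 ∨ q * w = x ∨ q * w = y ∨ q * w = x * y ∨ q * w = y * x ∨
        q * w = x * y * x) := by
      rintro w (rfl | rfl) q (rfl | rfl | rfl | rfl | rfl | rfl)
      · right; left; rw [one_mul]
      · left; exact hxx
      · right; right; right; right; left; rfl
      · right; right; right; right; right; rfl
      · right; right; left; rw [mul_assoc, hxx, mul_one]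
      · right; right; right; left; rw [mul_assoc, hxx, mul_one]
      · right; right; left; rw [one_mul]
      · right; right; right; left; rfl
      · left; exact hyy
      · right; left; rw [mul_assoc, hyy, mul_one]
      · right; right; right; right; right; exact hbraid.symm
      · right; right; right; right; left
        rw [hbraid, mul_assoc, hyy, mul_one]
    have hinv : ∀ w ∈ ({x, y} : Set (G ⧸ L)), w⁻¹ = w := by
      rintro w (rfl | rfl)
      exacts [inv_eq_of_mul_eq_one_right hxx, inv_eq_of_mul_eq_one_right hyy]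
    induction hq using Subgroup.closure_induction_right with
    | one => exact Or.inl rfl
    | mul_right q _ w hw ih => exact hstep w hw q ih
    | mul_inv_cancel q _ w hw ih => rw [hinv w hw]; exact hstep w hw q ih
  have hctr : ∀ q : G ⧸ L, (∀ u ∈ E, Commute q u) → q = 1 := by
    intro q hq
    have h1 := hq x hx
    have h2 := hq y hy
    rcases hsix q with rfl | rfl | rfl | rfl | rfl | rfl
    · rfl
    · exact absurd h2 hcxy
    · exact absurd h1.symm hcxy
    · exact absurd (mul_left_cancel (h1.eq.symm.trans (mul_assoc x y x))) hcxy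
    · exact absurd (mul_left_cancel (h2.eq.symm.trans (mul_assoc y x y))).symm hcxy
    · exact absurd (hne _ hzE x hx h1) hzx
  obtain ⟨ε⟩ : Nonempty (↥E ≃ Fin 3) := ⟨Nat.equivFinOfCardPos (by
      rw [Nat.card_coe_set_eq, h3]; norm_num) |>.trans (finCongr (by rw [Nat.card_coe_set_eq, h3]))⟩
  let cj : (G ⧸ L) →* Equiv.Perm ↥E :=
    { toFun := fun g =>
        { toFun := fun u => ⟨g * (u : G ⧸ L) * g⁻¹, hconj g u u.2⟩
          invFun := fun u => ⟨g⁻¹ * (u : G ⧸ L) * g, by simpa using hconj g⁻¹ u u.2⟩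
          left_inv := fun u => Subtype.ext (by group)
          right_inv := fun u => Subtype.ext (by group) }
      map_one' := Equiv.ext fun u => Subtype.ext (by simp)
      map_mul' := fun g h => Equiv.ext fun u => Subtype.ext (by
        show g * h * (u : G ⧸ L) * (g * h)⁻¹ = g * (h * (u : G ⧸ L) * h⁻¹) * g⁻¹
        group) }
  let f : (G ⧸ L) →* Equiv.Perm (Fin 3) := ε.permCongrHom.toMonoidHom.comp cj
  have hf : ∀ g p, f g p = ε (cj g (ε.symm p)) := fun g p => rfl
  have hfix : ∀ g (u : ↥E), f g (ε u) = ε u ↔ Commute g (u : G ⧸ L) := fun g u => by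
    rw [hf, ε.symm_apply_apply, ε.injective.eq_iff, Subtype.ext_iff]
    exact mul_inv_eq_iff_eq_mul
  have hinj : Function.Injective f := (injective_iff_map_eq_one f).2 fun g hg =>
    hctr g fun u hu => (hfix g ⟨u, hu⟩).1 (by rw [hg]; rfl)
  have hmem : ∀ u (hu : u ∈ E), f u (ε ⟨u, hu⟩) = ε ⟨u, hu⟩ ∧ f u ≠ 1 := fun u hu =>
    ⟨(hfix u ⟨u, hu⟩).2 (Commute.refl u), fun h => by
      have h1 : u = 1 := hinj (h.trans (map_one f).symm)
      rcases eq_or_ne u x with rfl | hux
      · exact hxy (hne _ hu y hy (h1 ▸ Commute.one_left y))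
      · exact hux (hne u hu x hx (h1 ▸ Commute.one_left x))⟩
  have himg : f '' E = {σ : Equiv.Perm (Fin 3) | σ.IsSwap} := by
    ext σ
    constructor
    · rintro ⟨u, hu, rfl⟩
      exact H45.Narrow.perm_three_swap _ _ (hmem u hu).1 (hmem u hu).2
    · rintro ⟨a, b, hab, rfl⟩
      obtain ⟨h1, p, hp⟩ := H45.Narrow.swap_three_fix a b hab
      obtain ⟨hfp, hne'⟩ := hmem _ (ε.symm p).2
      rw [Subtype.coe_eta, ε.apply_symm_apply] at hfp
      exact ⟨_, (ε.symm p).2, H45.Narrow.perm_three_fix _ _ p hfp hp hne' h1⟩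
  have hsurj : Function.Surjective f := by
    rw [← MonoidHom.range_eq_top, eq_top_iff, ← Equiv.Perm.closure_isSwap, ← himg,
      Subgroup.closure_le]
    rintro _ ⟨u, -, rfl⟩
    exact ⟨u, rfl⟩
  exact ⟨MulEquiv.ofBijective f ⟨hinj, hsurj⟩⟩

end Setup

end H88.Disc
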