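/-
At types M(22), M(23), M(24) every involution fixes a member.
-/
import Cfsg.Agent.H88.Disc.Defs
import Cfsg.Agent.H99.Fischer.Wiring

set_option autoImplicit false

namespace H88.Disc

open Cfsg H99

universe u

variable {X : Type u} [Group X] [Finite X] {E : Set X}

theorem no_shift_of_classes {M : ℕ} (h : H99.Fi.Classes E M) (hne : E.Nonempty) (g : X) :
    ¬ IsShift E g := by
  rintro ⟨hg2, hg⟩
  by_cases h1 : g = 1
  · obtain ⟨a, ha⟩ := hne
    exact (hg a ha).1 (by rw [h1, one_mul, inv_one, mul_one])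
  · have ho : orderOf g = 2 := orderOf_eq_prime (by rw [pow_two, hg2]) h1
    obtain ⟨m, hm1, -, l, -, hlen, hmem, hcomm, hprod⟩ := h.1 g ho
    cases l with
    | nil => simp at hlen; omega
    | cons a t =>
      refine (hg a (hmem a List.mem_cons_self)).1 (mul_inv_eq_iff_eq_mul.2 ?_)
      have hc : Commute a (a :: t).prod :=
        Commute.list_prod_right (a :: t) a fun b hb => hcomm a List.mem_cons_self b hb
      rw [hprod] at hc
      exact hc.eq.symm

/-- The three types have no shift. -/
theorem no_shift_m (hcl : IsThreeTranspositionClass E) (hp : IsPrimitiveUnderConj E)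
    (h : IsOfTypeM22 X E ∨ IsOfTypeM23 X E ∨ IsOfTypeM24 X E) (g : X) : ¬ IsShift E g := by
  obtain ⟨a, ha, -⟩ := hcl.2.1
  rcases h with h | h | h
  · exact no_shift_of_classes (H99.Fi.classes_m22 (class_toGroup hcl) hp h) ⟨a, ha⟩ g
  · exact no_shift_of_classes (H99.Fi.classes_m23 (class_toGroup hcl) hp h) ⟨a, ha⟩ g
  · exact no_shift_of_classes (H99.Fi.classes_m24 (class_toGroup hcl) hp h) ⟨a, ha⟩ g

end H88.Disc
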