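/-
Disconnected classes of 3-transpositions, from the statements on the single families.
-/
import Cfsg.Agent.H88.Disc.Count
import Cfsg.Agent.H88.Disc.MTypes
import Cfsg.Agent.H71.Fischer.Main

set_option autoImplicit false

namespace H88.Disc

open Cfsg H99 H71.Fischer

universe u

theorem main_of (hP : PlainStmt.{u}) (hM : OMinusShiftStmt.{u}) (hO : OPlusTwistStmt.{u})
    (hR : ReflTwistStmt.{u}) {G : Type u} [Group G] [Finite G] {D : Set G}
    (hD : IsThreeTranspositionClass D) (hZ : Subgroup.center G = ⊥) (h2 : pCore 2 G = ⊥)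
    (h3 : pCore 3 G = ⊥) (hdisc : ¬ (commutingGraph D).Connected) (F : Subgroup G) [F.Normal]
    (hF : F = generalizedFittingSubgroup G) :
    Nonempty (G ⧸ F ≃* Equiv.Perm (Fin 3)) ∧
      (Nonempty (F ≃* Omega (ZMod 2) (quadFormPlus 4 (ZMod 2))) ∨
        Nonempty (F ≃* POmega (ZMod 3) (quadFormPlus 4 (ZMod 3)))) := by
  obtain ⟨L, S⟩ := exists_setup hD hZ h2 h3 hdisc
  obtain rfl : F = L := hF.trans S.fstar
  obtain ⟨d, hd, -⟩ := hD.2.1
  obtain ⟨e, he, hde⟩ := S.exists_outside d hd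
  have hT := S.twist hd he hde
  obtain ⟨t, ht⟩ := hT.nonempty
  have ht' := hT.shift t ht
  have hcl := S.piece_cls hd
  have hp := S.piece_prim hd
  have hfin : FewShifts (piece D F d) → Nonempty (G ⧸ F ≃* Equiv.Perm (Fin 3)) := fun h =>
    S.quot_equiv (S.imgs_three hd h)
  obtain ⟨a, ha, b, hb, hab, hc⟩ := S.piece_width hd
  by_cases hcc : CoresCentral (piece D F d) a
  · rcases classify steps _ rfl ⟨class_toGroup hcl, hp, S.piece_center hd, ha,
      ⟨b, hb, hab.symm, hc⟩, hcc⟩ with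
      ⟨n, hn, hX⟩ | (⟨m, hm, hX⟩ | ⟨m, hm, hX⟩) | ⟨n, hn, hX⟩ | hX
    · exact absurd ht' (hP (Or.inl ⟨n, by omega, hX⟩) t)
    · obtain ⟨-, hfew, ⟨φ⟩⟩ := hO hm hX _ hT
      exact ⟨hfin hfew, Or.inl ⟨(S.pieceEquiv hd).symm.trans φ⟩⟩
    · exact absurd ht' (hM hm hX t)
    · obtain ⟨-, hfew, ⟨φ⟩⟩ := hR hn hX _ hT
      exact ⟨hfin hfew, Or.inr ⟨(S.pieceEquiv hd).symm.trans φ⟩⟩
    · exact absurd ht' (no_shift_m hcl hp hX t)
  · rcases steps.core (class_toGroup hcl) hp (S.piece_center hd) ha ⟨b, hb, hab.symm, hc⟩ hcc with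
      hX | ⟨m, hm, hX⟩ | ⟨n, hn, hX⟩
    · exact absurd ht' (hP (Or.inl ⟨5, by norm_num, hX⟩) t)
    · exact absurd ht' (hP (Or.inr (Or.inl ⟨m, hm, hX⟩)) t)
    · exact absurd ht' (hP (Or.inr (Or.inr ⟨n, hn, hX⟩)) t)

end H88.Disc
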